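import Groth.Agent.PicExt61.Main

/-!
# Shrinking when every connected closed set has connected nonempty trace on the closed subscheme
-/

set_option autoImplicit false
universe u

open CategoryTheory AlgebraicGeometry TopologicalSpace

noncomputable section

namespace Groth.Agent.PicExt61

theorem shrinkable_of_connected {X X₀ : Scheme.{u}} [IsNoetherian X] (i : X₀ ⟶ X) [IsClosedImmersion i]
    (hb : ∀ Y : Set X, IsClosed Y → Y.Nonempty → _root_.IsConnected Y →
      (Y ∩ Set.range i.base).Nonempty ∧ _root_.IsConnected (Y ∩ Set.range i.base)) :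
    Shrinkable i := by
  intro N _ b M hMN K hK hKpt hYK
  set B := X.basicOpen b
  let Z : Set X := closure ((M : Set X) ∩ (B : Set X)ᶜ)
  have hZB : Z ⊆ (B : Set X)ᶜ := closure_minimal Set.inter_subset_right B.2.isClosed_compl
  let P : Set X := (M : Set X) ∩ (B : Set X)ᶜ ∩ Set.range i.base
  have hPK : P ⊆ ⇑i '' K := fun y ⟨hy, x, hx⟩ => ⟨x, hYK x (hMN (hx ▸ hy.1)) (hx ▸ hy.2), hx⟩
  have hPfin : P.Finite := (hK.image _).subset hPK
  have hPpt : ∀ y ∈ P, IsClosed ({y} : Set X) := fun y hy => by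
    obtain ⟨x, hx, rfl⟩ := hPK hy
    rw [← Set.image_singleton]
    exact i.isClosedEmbedding.isClosedMap _ (hKpt x hx)
  have hPZ : P ⊆ Z := fun y hy => subset_closure hy.1
  have hCclosed : ∀ p ∈ P, IsClosed (connectedComponentIn Z p) := fun p hp =>
    isClosed_of_closure_subset ((isPreconnected_connectedComponentIn.closure).subset_connectedComponentIn
      (subset_closure (mem_connectedComponentIn (hPZ hp)))
      (closure_minimal (connectedComponentIn_subset Z p) isClosed_closure))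
  have hCM : ∀ p ∈ P, connectedComponentIn Z p ⊆ M := by
    intro p hp q hq
    by_contra hqM
    set C := connectedComponentIn Z p
    have hq' : closure ({q} : Set X) ⊆ C ∩ (M : Set X)ᶜ :=
      closure_minimal (Set.singleton_subset_iff.2 ⟨hq, hqM⟩) ((hCclosed p hp).inter M.2.isClosed_compl)
    obtain ⟨⟨y, hy, hyi⟩, -⟩ := hb (closure {q}) isClosed_closure ⟨q, subset_closure rfl⟩
      isConnected_singleton.closure
    have hconn := (hb C (hCclosed p hp) ⟨p, mem_connectedComponentIn (hPZ hp)⟩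
      (isConnected_connectedComponentIn_iff.2 (hPZ hp))).2.isPreconnected
    have hfin : IsClosed (C ∩ Set.range i.base ∩ M) := by
      have hsub : C ∩ Set.range i.base ∩ M ⊆ P := fun z hz =>
        ⟨⟨hz.2, hZB (connectedComponentIn_subset Z p hz.1.1)⟩, hz.1.2⟩
      have h := (hPfin.subset hsub).isClosed_biUnion fun z hz => hPpt z (hsub hz)
      rwa [Set.biUnion_of_singleton] at h
    obtain ⟨z, -, hz1, hz2⟩ := isPreconnected_closed_iff.1 hconn _ ((M : Set X)ᶜ) hfin M.2.isClosed_compl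
      (fun z hz => by
        by_cases hzM : z ∈ M
        · exact Or.inl ⟨hz, hzM⟩
        · exact Or.inr hzM)
      ⟨p, ⟨mem_connectedComponentIn (hPZ hp), hp.2⟩, ⟨mem_connectedComponentIn (hPZ hp), hp.2⟩, hp.1.1⟩
      ⟨y, ⟨(hq' hy).1, hyi⟩, (hq' hy).2⟩
    exact hz2 hz1.2
  obtain ⟨S, hSf, hSc, hSi, hS⟩ := NoetherianSpace.exists_finite_set_isClosed_irreducible
    (isClosed_closure : IsClosed Z)
  let Y' : Set X := ⋃ p ∈ P, connectedComponentIn Z p
  let R : Set X := ⋃ t ∈ {t ∈ S | ¬ t ⊆ Y'}, t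
  have hR : IsClosed R := (hSf.subset fun t ht => ht.1).isClosed_biUnion fun t ht => hSc t ht.1
  have hY'c : IsClosed Y' := hPfin.isClosed_biUnion hCclosed
  have hdis : ∀ y ∈ Y', y ∉ R := by
    intro y hy hyR
    obtain ⟨t, ⟨htS, htY⟩, hyt⟩ := Set.mem_iUnion₂.1 hyR
    obtain ⟨p, hp, hyp⟩ := Set.mem_iUnion₂.1 hy
    refine htY ?_
    have htZ : t ⊆ Z := (Set.subset_sUnion_of_mem htS).trans hS.symm.subset
    refine Set.Subset.trans ?_ (Set.subset_biUnion_of_mem (u := fun p => connectedComponentIn Z p) hp)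
    show t ⊆ connectedComponentIn Z p
    rw [connectedComponentIn_eq hyp]
    exact (hSi t htS).isConnected.isPreconnected.subset_connectedComponentIn hyt htZ
  refine ⟨M ⊓ ⟨Rᶜ, hR.isOpen_compl⟩, inf_le_left, ?_, fun x hx hxB => ⟨hx, ?_⟩⟩
  · convert hY'c using 1
    ext y
    constructor
    · rintro ⟨⟨hyM, hyR⟩, hyB⟩
      by_contra hy
      have hyZ : y ∈ ⋃₀ S := hS.subset (subset_closure ⟨hyM, hyB⟩)
      obtain ⟨t, htS, hyt⟩ := hyZ
      exact hyR (Set.mem_iUnion₂.2 ⟨t, ⟨htS, fun h => hy (h hyt)⟩, hyt⟩)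
    · intro hy
      obtain ⟨p, hp, hyp⟩ := Set.mem_iUnion₂.1 hy
      exact ⟨⟨hCM p hp hyp, hdis y hy⟩, hZB (connectedComponentIn_subset Z p hyp)⟩
  · exact hdis _ (Set.mem_iUnion₂.2 ⟨i x, ⟨⟨hx, hxB⟩, x, rfl⟩, mem_connectedComponentIn (hPZ ⟨⟨hx, hxB⟩, x, rfl⟩)⟩)

end Groth.Agent.PicExt61
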